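import Groth.Agent.H23.FinTrace
import Groth.Agent.QCoh.RpushAbGod
import Groth.Agent.QCoh.AffineCohom
import Groth.Agent.QCoh.Tilde
import Groth.Agent.FrobSchLib.Basic
import Groth.Prelude.Def_Frob
import Groth.Prelude.Def_ClSub2
import Mathlib.LinearAlgebra.Matrix.Charpoly.FiniteField

/-!
For a double cover `f : Y ⟶ X` of schemes of odd characteristic `p` the quotient
`F_* O_X / O_X` is a direct summand of `f_* (F_* O_Y / O_Y)`.
-/

universe u

open CategoryTheory CategoryTheory.Limits AlgebraicGeometry TopologicalSpace Opposite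

namespace Groth.Agent.H44Frob

section ring

open Polynomial Matrix

variable {R : Type*} [CommRing R] {p : ℕ} [Fact p.Prime]

theorem matrix_trace_pow_char [CharP R p] {n : Type*} [Fintype n] [DecidableEq n] (M : Matrix n n R) :
    Matrix.trace (M ^ p) = Matrix.trace M ^ p := by
  cases isEmpty_or_nonempty n
  · simp [Matrix.trace, zero_pow (Fact.out : p.Prime).ne_zero]
  have key : (M ^ p).charpoly = M.charpoly.map (frobenius R p) := by
    apply Polynomial.expand_injective (R := R) (Fact.out : p.Prime).pos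
    rw [← Polynomial.map_expand, map_frobenius_expand]
    rw [Matrix.charpoly, Matrix.charpoly, AlgHom.map_det, ← Matrix.det_pow]
    apply congr_arg Matrix.det
    refine matPolyEquiv.injective ?_
    rw [map_pow, matPolyEquiv_charmatrix, sub_pow_char_of_commute, ← C_pow]
    · exact (id (matPolyEquiv_eq_X_pow_sub_C p M) :)
    · exact (C M).commute_X
  have hp : p ≠ 0 := (Fact.out : p.Prime).ne_zero
  rw [Matrix.trace_eq_neg_charpoly_coeff, Matrix.trace_eq_neg_charpoly_coeff, key, coeff_map,
    frobenius_def, neg_pow, neg_one_pow_char, neg_one_mul]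

theorem algebra_trace_pow_char {S : Type*} [CommRing S] [Algebra R S] {ι : Type*} [Fintype ι]
    (b : Module.Basis ι R S) (hp : (p : R) = 0) (a : S) :
    Algebra.trace R S (a ^ p) = Algebra.trace R S a ^ p := by
  classical
  cases subsingleton_or_nontrivial R
  · exact Subsingleton.elim _ _
  haveI : CharP R p := (CharP.charP_iff_prime_eq_zero Fact.out).2 hp
  rw [Algebra.trace_eq_matrix_trace b, Algebra.trace_eq_matrix_trace b, map_pow,
    matrix_trace_pow_char]

end ring

theorem locRange_of_isQCoh {X : Scheme.{u}} {A B : X.Modules} (α : A ⟶ B) (hA : Coh.IsQCoh A)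
    (hB : Coh.IsQCoh B) : QCoh.LocRange α := by
  refine ⟨fun V hV g y => ?_, fun V hV g z a ha => ?_⟩
  · obtain ⟨n, z, hz⟩ := QCoh.exists_pow_smul_eq_map hB hV g y
    refine ⟨n, z, 0, (map_zero _).trans (sub_eq_zero.2 ?_).symm⟩
    simpa only [QCoh.rf, map_pow] using hz
  · obtain ⟨n, a', ha'⟩ := QCoh.exists_pow_smul_eq_map hA hV g a
    have h0 : QCoh.rs B (X.basicOpen_le g) (α.app V a' - g ^ n • z) = 0 := by
      rw [QCoh.rs_sub, QCoh.rs_smul, ← ha, sub_eq_zero, ← Scheme.Modules.Hom.app_smul, ← QCoh.app_rs]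
      exact congrArg (α.app _) (by simpa only [QCoh.rf, map_pow] using ha')
    obtain ⟨m, hm⟩ := QCoh.exists_pow_smul_eq_zero hB hV g _ h0
    refine ⟨m + n, g ^ m • a', ?_⟩
    rw [Scheme.Modules.Hom.app_smul, pow_add, mul_smul]
    rwa [smul_sub, sub_eq_zero] at hm

open H23.FinTrace

variable {X Y : Scheme.{u}} (f : Y ⟶ X) [IsAffineHom f]

/-- The direct image algebra as the direct image module. -/
noncomputable def directImageIso : (RelSpec.QCAlg.directImage f).toModule ≅
    (Scheme.Modules.pushforward f).obj (Coh.structureModule Y) where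
  hom := ⟨PresheafOfModules.homMk { app := fun _ => 𝟙 _, naturality := fun _ _ _ => rfl }
    (fun _ _ _ => rfl)⟩
  inv := ⟨PresheafOfModules.homMk { app := fun _ => 𝟙 _, naturality := fun _ _ _ => rfl }
    (fun _ _ _ => rfl)⟩
  hom_inv_id := rfl
  inv_hom_id := rfl

variable {f}

/-- A morphism `f_* O_Y ⟶ O_X` on sections. -/
noncomputable def secMap
    (τ : (Scheme.Modules.pushforward f).obj (Coh.structureModule Y) ⟶ Coh.structureModule X)
    (U : X.Opens) : Γ(Y, f ⁻¹ᵁ U) →+ Γ(X, U) :=
  (τ.app U).hom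

theorem exists_trace (p : ℕ) [Fact p.Prime] [FrobSch.IsCharP X p] {d : ℕ}
    (hd : FlatMod.IsFinLocFreeOfRank d
      ((Scheme.Modules.pushforward f).obj (Coh.structureModule Y))) :
    ∃ τ : ((Scheme.Modules.pushforward f).obj (Coh.structureModule Y) ⟶ Coh.structureModule X),
      (∀ (U : X.Opens) (r : Γ(X, U)), secMap τ U (f.app U r) = d • r) ∧
      ∀ (U : X.Opens) (s : Γ(Y, f ⁻¹ᵁ U)), secMap τ U (s ^ p) = secMap τ U s ^ p := by
  set A := RelSpec.QCAlg.directImage f
  have hfr : ∀ x : X, ∃ (U : X.Opens) (s : Fin d → A.presheaf.obj (op U)), x ∈ U ∧ IsFrameA A s := by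
    intro x
    obtain ⟨U, hx, ⟨e⟩⟩ := hd x
    obtain ⟨s, hs⟩ := H23.Frame.exists_frame
      ((Scheme.Modules.restrictFunctor U.ι).mapIso (directImageIso f) ≪≫ e)
    exact ⟨U, s, hx, hs⟩
  choose U s hxU hs using hfr
  have hA : FlatMod.IsFinLocFree A.toModule := fun x => by
    obtain ⟨V, hx, ⟨e⟩⟩ := hd x
    exact ⟨V, d, hx, ⟨(Scheme.Modules.restrictFunctor V.ι).mapIso (directImageIso f) ≪≫ e⟩⟩
  refine ⟨(directImageIso f).inv ≫ trHom hA, fun W r => ?_, fun W y => ?_⟩
  · show trGlue hA W ((A.str.app (op W)).hom r) = d • r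
    refine trGlue_eq hA fun V h hV => ?_
    rw [str_res A h r, map_nsmul]
    refine X.sheaf.eq_of_locally_eq' (fun x : X => U x ⊓ V) V (fun x => homOfLE inf_le_right)
      (fun x hx => Opens.mem_iSup.mpr ⟨x, hxU x, hx⟩) _ _ fun x => ?_
    show X.presheaf.map (homOfLE inf_le_right).op _ = X.presheaf.map (homOfLE inf_le_right).op (trW A V _)
    rw [← hV.res, str_res A inf_le_right, trW_algebraMap A (hs x) inf_le_left, map_nsmul]
  · have key : trGlue hA W ((show A.presheaf.obj (op W) from y) ^ p) =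
        trGlue hA W (show A.presheaf.obj (op W) from y) ^ p := by
      refine trGlue_eq hA fun V h hV => ?_
      rw [map_pow, map_pow, trGlue_spec hA W _ V h hV]
      letI := alg A V
      obtain ⟨n, U', s', hs', hVU⟩ := hV
      exact (algebra_trace_pow_char (basisA A hs' V hVU) (FrobSch.natCast_eq_zero_app X p V) _).symm
    exact key

/-- The quotient `F_* O_X / O_X` has no cohomology if that of a double cover has none. -/
theorem subsingleton_of_double_cover (p : ℕ) [Fact p.Prime] (hp : p ≠ 2)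
    [FrobSch.IsCharP X p] [FrobSch.IsCharP Y p]
    (h2 : FlatMod.IsFinLocFreeOfRank 2 ((Scheme.Modules.pushforward f).obj (Coh.structureModule Y)))
    (i : ℕ) (hY : Subsingleton (Coh.HH Y (cokernel (ClSub.unitToPush (FrobSch.frob Y p))) i)) :
    Subsingleton (Coh.HH X (cokernel (ClSub.unitToPush (FrobSch.frob X p))) i) := by
  obtain ⟨τ, hτ1, hτp⟩ := exists_trace p h2
  set uX := ClSub.unitToPush (FrobSch.frob X p)
  set uY := ClSub.unitToPush (FrobSch.frob Y p)
  set v := (Scheme.Modules.pushforward f).map uY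
  obtain ⟨m, hm⟩ : ∃ m, p = 2 * m + 1 := (Fact.out : p.Prime).odd_of_ne_two hp
  let c := m + 1
  have hc : ∀ (U : X.Opens) (r : Γ(X, U)), c • (2 • r) = r := fun U r => by
    rw [smul_smul, show c * 2 = p + 1 by omega, add_smul, one_smul, nsmul_eq_mul,
      FrobSch.natCast_eq_zero_app X p U, zero_mul, zero_add]
  have hcp : ∀ (U : X.Opens) (r : Γ(X, U)), c • (r ^ p) = (c • r) ^ p := fun U r => by
    cases subsingleton_or_nontrivial Γ(X, U)
    · exact Subsingleton.elim _ _
    haveI : CharP Γ(X, U) p :=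
      (CharP.charP_iff_prime_eq_zero Fact.out).2 (FrobSch.natCast_eq_zero_app X p U)
    rw [nsmul_eq_mul, nsmul_eq_mul, mul_pow, ← frobenius_def p (c : Γ(X, U)), map_natCast]
  let b₁ := c • τ
  have hb₁ : ∀ (U : X.Opens) (y : Γ(Y, f ⁻¹ᵁ U)), secMap b₁ U y = c • secMap τ U y := by
    intro U y
    have : ∀ k : ℕ, secMap (k • τ) U y = k • secMap τ U y := fun k => by
      induction k with
      | zero => rw [zero_smul, zero_smul]; rfl
      | succ k ih => rw [succ_nsmul, succ_nsmul, ← ih]; rfl
    exact this c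
  let a₂ : (Scheme.Modules.pushforward (FrobSch.frob X p)).obj (Coh.structureModule X) ⟶
      (Scheme.Modules.pushforward f).obj
        ((Scheme.Modules.pushforward (FrobSch.frob Y p)).obj (Coh.structureModule Y)) :=
    ⟨PresheafOfModules.homMk
      { app := fun U => AddCommGrpCat.ofHom ((f.app U.unop).hom : Γ(X, U.unop) →+* _).toAddMonoidHom
        naturality := fun U V i => by
          ext s
          exact congr($(f.naturality i) s) }
      (fun U r s => by
        show f.app U.unop ((show Γ(X, U.unop) from r) ^ p * (show Γ(X, U.unop) from s)) =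
          f.app U.unop (show Γ(X, U.unop) from r) ^ p * f.app U.unop (show Γ(X, U.unop) from s)
        rw [map_mul, map_pow])⟩
  let b₂ : (Scheme.Modules.pushforward f).obj
        ((Scheme.Modules.pushforward (FrobSch.frob Y p)).obj (Coh.structureModule Y)) ⟶
      (Scheme.Modules.pushforward (FrobSch.frob X p)).obj (Coh.structureModule X) :=
    ⟨PresheafOfModules.homMk
      { app := fun U => AddCommGrpCat.ofHom (b₁.app U.unop).hom
        naturality := fun U V i => by
          ext s
          exact QCoh.map_app_comm b₁ i.unop s }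
      (fun U r s => by
        have h : ∀ (r' : Γ(X, U.unop)) (s' : Γ(Y, f ⁻¹ᵁ U.unop)),
            secMap b₁ U.unop (f.app U.unop r' * s') = r' * secMap b₁ U.unop s' :=
          fun r' s' => Scheme.Modules.Hom.app_smul b₁ r' _
        show secMap b₁ U.unop ((f.app U.unop (show Γ(X, U.unop) from r)) ^ p *
            (show Γ(Y, f ⁻¹ᵁ U.unop) from s)) =
          (show Γ(X, U.unop) from r) ^ p * secMap b₁ U.unop (show Γ(Y, f ⁻¹ᵁ U.unop) from s)
        rw [← map_pow]
        exact h _ _)⟩
  have ha : uX ≫ a₂ = ClSub.unitToPush f ≫ v := by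
    refine Scheme.Modules.hom_ext _ _ fun U => ?_
    ext r
    exact map_pow (f.app U).hom (show Γ(X, U) from r) p
  have hb : v ≫ b₂ = b₁ ≫ uX := by
    refine Scheme.Modules.hom_ext _ _ fun U => ?_
    ext y
    have h : ∀ y' : Γ(Y, f ⁻¹ᵁ U), secMap b₁ U (y' ^ p) = secMap b₁ U y' ^ p := fun y' => by
      rw [hb₁, hb₁, hτp, hcp]
    exact h y
  have hab : a₂ ≫ b₂ = 𝟙 _ := by
    refine Scheme.Modules.hom_ext _ _ fun U => ?_
    ext r
    have h : ∀ r' : Γ(X, U), secMap b₁ U (f.app U r') = r' := fun r' => by rw [hb₁, hτ1, hc]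
    exact h r
  let a := cokernel.map uX v (ClSub.unitToPush f) a₂ ha
  let b := cokernel.map v uX b₁ b₂ hb
  have hret : a ≫ b = 𝟙 _ := by
    refine coequalizer.hom_ext ?_
    simp only [a, b, cokernel.map, cokernel.π_desc_assoc, Category.assoc, cokernel.π_desc]
    rw [← Category.assoc, hab, Category.id_comp, Category.comp_id]
  haveI : IsAffineHom (FrobSch.frob X p) := ⟨fun U hU => hU⟩
  haveI : IsAffineHom (FrobSch.frob Y p) := ⟨fun U hU => hU⟩
  have hO := QCoh.isQCoh_structureModule (X := Y)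
  have hFO := QCoh.isQCoh_pushforward (FrobSch.frob Y p) hO
  obtain ⟨e⟩ := QCoh.nonempty_cokernel_push_iso f uY (locRange_of_isQCoh _ hO hFO)
    (locRange_of_isQCoh _ (QCoh.isQCoh_pushforward f hO) (QCoh.isQCoh_pushforward f hFO))
  obtain ⟨e'⟩ := QCoh.HH_push_of_isAffineHom f (QCoh.isQCoh_cokernel hO hFO uY) i
  haveI : Subsingleton (Coh.HH X ((Coh.push f).obj (cokernel uY)) i) := e'.symm.toEquiv.subsingleton
  let g : cokernel uX ⟶ (Scheme.Modules.pushforward f).obj (cokernel uY) := a ≫ e.hom
  let g' : (Scheme.Modules.pushforward f).obj (cokernel uY) ⟶ cokernel uX := e.inv ≫ b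
  have hgg : (SheafOfModules.toSheaf X.ringCatSheaf).map g ≫
      (SheafOfModules.toSheaf X.ringCatSheaf).map g' = 𝟙 _ := by
    have hid : g ≫ g' = 𝟙 (cokernel uX) := by
      simp only [g, g', Category.assoc, Iso.hom_inv_id_assoc]
      exact hret
    exact ((SheafOfModules.toSheaf X.ringCatSheaf).map_comp g g').symm.trans
      ((congrArg _ hid).trans ((SheafOfModules.toSheaf X.ringCatSheaf).map_id _))
  refine ⟨fun x y => ?_⟩
  have hinj : ∀ z, Sheaf.H.map ((SheafOfModules.toSheaf X.ringCatSheaf).map g') i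
      (Sheaf.H.map ((SheafOfModules.toSheaf X.ringCatSheaf).map g) i z) = z :=
    fun z => by rw [← Sheaf.H.map_comp_apply, hgg, Sheaf.H.map_id_apply]
  rw [← hinj x, ← hinj y]
  exact congrArg _ (Subsingleton.elim _ _)

end Groth.Agent.H44Frob
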