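import Groth.Prelude.Def_Frob
import Groth.Agent.FrobSmoothLib.Global
import Mathlib.AlgebraicGeometry.Morphisms.Smooth
import Mathlib.AlgebraicGeometry.Morphisms.Flat

/-!
# The relative Frobenius of a smooth morphism is flat
-/

set_option linter.style.haveILetI false

universe u

open CategoryTheory CategoryTheory.Limits AlgebraicGeometry

namespace Groth.Agent.H44Frob

variable (p : ℕ) [Fact p.Prime]

theorem frob_spec (A : Type u) [CommRing A] [CharP A p] :
    FrobSch.frob (Spec (CommRingCat.of A)) p = Spec.map (CommRingCat.ofHom (frobenius A p)) := by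
  refine ext_of_isAffine (CommRingCat.hom_ext (RingHom.ext fun s => ?_))
  obtain ⟨a, rfl⟩ := (Scheme.ΓSpecIso (CommRingCat.of A)).commRingCatIsoToRingEquiv.symm.surjective s
  refine (FrobSch.frob_appTop _ p _).trans ?_
  refine Eq.trans ?_ (congr($(Scheme.ΓSpecIso_inv_naturality (CommRingCat.ofHom (frobenius A p))) a))
  exact (map_pow (Scheme.ΓSpecIso (CommRingCat.of A)).inv.hom a p).symm

/-- Relative Frobenius of an affine morphism. -/
theorem flat_relFrob_spec (A B : Type u) [CommRing A] [CharP A p] [CommRing B] [Algebra A B] [CharP B p]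
    [Algebra.Smooth A B] : Flat (FrobSch.relFrob (Spec.map (CommRingCat.ofHom (algebraMap A B))) p) := by
  let fst' : Spec (CommRingCat.of (FrobAlg.BaseChange p A B)) ⟶ Spec (CommRingCat.of B) :=
    Spec.map (CommRingCat.ofHom Algebra.TensorProduct.includeLeftRingHom)
  let snd' : Spec (CommRingCat.of (FrobAlg.BaseChange p A B)) ⟶ Spec (CommRingCat.of A) :=
    Spec.map (CommRingCat.ofHom ((Algebra.TensorProduct.includeRight :
      FrobAlg.Twist p A →ₐ[A] FrobAlg.BaseChange p A B).toRingHom.comp (FrobAlg.toTwist p A).toRingHom))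
  have hP : IsPullback fst' snd' (Spec.map (CommRingCat.ofHom (algebraMap A B)))
      (FrobSch.frob (Spec (CommRingCat.of A)) p) := by
    rw [frob_spec]
    exact IsPullback.of_iso_pullback ⟨by rw [← Spec.map_comp, ← Spec.map_comp]; exact congrArg Spec.map (CommRingCat.hom_ext (Algebra.TensorProduct.includeLeftRingHom_comp_algebraMap (A := B) (B := FrobAlg.Twist p A)))⟩ (pullbackSpecIso A B (FrobAlg.Twist p A)).symm (pullbackSpecIso_inv_fst A B (FrobAlg.Twist p A)) (pullbackSpecIso_inv_snd A B (FrobAlg.Twist p A))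
  let c : FrobSch.frobTwist (Spec.map (CommRingCat.ofHom (algebraMap A B))) p ⟶
      Spec (CommRingCat.of (FrobAlg.BaseChange p A B)) := hP.isoPullback.inv
  have hc : FrobSch.relFrob (Spec.map (CommRingCat.ofHom (algebraMap A B))) p ≫ c =
      Spec.map (CommRingCat.ofHom (FrobAlg.relFrob p A B)) := by
    refine hP.hom_ext ?_ ?_
    · rw [Category.assoc, hP.isoPullback_inv_fst, FrobSch.relFrob_fst, frob_spec, ← Spec.map_comp]
      congr 1
      ext b
      show b ^ p = FrobAlg.relFrob p A B (b ⊗ₜ[A] 1)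
      rw [FrobSmoothLib.relFrob_tmul', map_one, map_one, mul_one]
    · rw [Category.assoc, hP.isoPullback_inv_snd, FrobSch.relFrob_snd, ← Spec.map_comp]
      congr 1
      ext a
      show algebraMap A B a = FrobAlg.relFrob p A B (1 ⊗ₜ[A] (FrobAlg.toTwist p A a))
      rw [FrobSmoothLib.relFrob_tmul', one_pow, one_mul, RingEquiv.symm_apply_apply]
  have : Flat (Spec.map (CommRingCat.ofHom (FrobAlg.relFrob p A B))) :=
    HasRingHomProperty.Spec_iff.2 (FrobSmoothLib.flat_relFrob (p := p) (A := A) (B := B))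
  rw [← hc] at this
  haveI : IsZariskiLocalAtSource @Flat.{u} := HasRingHomProperty.instIsZariskiLocalAtSource (Q := RingHom.Flat)
  haveI := this
  rw [show FrobSch.relFrob (Spec.map (CommRingCat.ofHom (algebraMap A B))) p =
    (FrobSch.relFrob (Spec.map (CommRingCat.ofHom (algebraMap A B))) p ≫ c) ≫ hP.isoPullback.hom by simp [c]]
  infer_instance

/-- The relative Frobenius of a smooth morphism is flat. -/
theorem flat_relFrob {X S : Scheme.{u}} [FrobSch.IsCharP S p] (f : X ⟶ S) [Smooth f] :
    Flat (FrobSch.relFrob f p) := by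
  have hcov : ∀ x : X, ∃ (U : S.Opens) (_ : IsAffineOpen U) (V : X.Opens), IsAffineOpen V ∧ x ∈ V ∧ V ≤ f ⁻¹ᵁ U := by
    intro x
    obtain ⟨U, hU, hxU, -⟩ := TopologicalSpace.Opens.isBasis_iff_nbhd.mp S.isBasis_affineOpens
      (TopologicalSpace.Opens.mem_top (f x))
    obtain ⟨V, hV, hxV, e⟩ := TopologicalSpace.Opens.isBasis_iff_nbhd.mp X.isBasis_affineOpens
      (show x ∈ f ⁻¹ᵁ U from hxU)
    exact ⟨U, hU, V, hV, hxV, e⟩
  choose U hU V hV hxV e using hcov
  haveI : IsZariskiLocalAtSource @Flat.{u} := HasRingHomProperty.instIsZariskiLocalAtSource (Q := RingHom.Flat)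
  refine (IsZariskiLocalAtSource.iff_of_iSup_eq_top (P := @Flat.{u}) V
    (top_unique fun x _ => TopologicalSpace.Opens.mem_iSup.2 ⟨x, hxV x⟩)).2 fun x => ?_
  let A := Γ(S, U x)
  let B := Γ(X, V x)
  let φ := f.appLE (U x) (V x) (e x)
  letI : Algebra A B := φ.hom.toAlgebra
  haveI : Algebra.Smooth A B := f.smooth_appLE (hU x) (hV x) (e x)
  haveI : Nonempty (V x) := ⟨⟨x, hxV x⟩⟩
  haveI : Nonempty (V x).toScheme := ⟨⟨x, hxV x⟩⟩
  haveI : Nontrivial B := by show Nontrivial Γ(X, V x); infer_instance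
  haveI : CharP B p := by
    refine (CharP.charP_iff_prime_eq_zero Fact.out).2 ?_
    haveI := FrobSch.IsCharP.of_hom f p
    exact FrobSch.natCast_eq_zero_app X p (V x)
  haveI : Nontrivial A := (algebraMap A B).domain_nontrivial
  haveI : CharP A p := (CharP.charP_iff_prime_eq_zero Fact.out).2 (FrobSch.natCast_eq_zero_app S p (U x))
  haveI : FrobSch.IsCharP X p := FrobSch.IsCharP.of_hom f p
  let g := Spec.map (CommRingCat.ofHom (algebraMap A B))
  have hg : g ≫ (hU x).fromSpec = (hV x).fromSpec ≫ f := (hU x).SpecMap_appLE_fromSpec f (hV x) (e x)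
  let j : FrobSch.frobTwist g p ⟶ FrobSch.frobTwist f p :=
    pullback.map g (FrobSch.frob _ p) f (FrobSch.frob S p) (hV x).fromSpec (hU x).fromSpec (hU x).fromSpec hg
      (FrobSch.frob_comp p (hU x).fromSpec)
  have hj : (hV x).fromSpec ≫ FrobSch.relFrob f p = FrobSch.relFrob g p ≫ j := by
    refine pullback.hom_ext ?_ ?_
    · simp only [j, Category.assoc, pullback.lift_fst, FrobSch.relFrob_fst, FrobSch.relFrob_fst_assoc]
      exact (FrobSch.frob_comp p (hV x).fromSpec).symm
    · simp only [j, Category.assoc, pullback.lift_snd, FrobSch.relFrob_snd, FrobSch.relFrob_snd_assoc]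
      exact hg.symm
  have h1 : Flat ((hV x).fromSpec ≫ FrobSch.relFrob f p) := by
    rw [hj]
    haveI := flat_relFrob_spec p A B
    infer_instance
  rw [← (hV x).isoSpec_hom_fromSpec, Category.assoc]
  infer_instance

end Groth.Agent.H44Frob
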