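import Groth.Agent.InvX.Tensor
import Groth.Prelude.Def_Coh

/-!
# Semilinear maps of modules of rank one given on frames

For `σ` an additive endomorphism of the structure sheaf, frames `e a` of `M`, sections `n a` of `N` and
a compatibility rule, the map of abelian sheaves `g • e a ↦ σ g • n a`.
-/

universe u

open CategoryTheory AlgebraicGeometry TopologicalSpace Opposite

namespace Groth.Agent.H44Frob

open Groth.Agent Groth.Agent.AModX Groth.Agent.InvX

variable {X : Scheme.{u}} {M N : X.Modules}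

/-- An additive endomorphism of `O_X` on functions over `V`. -/
noncomputable def sapp (σ : Coh.toAb (Coh.structureModule X) ⟶ Coh.toAb (Coh.structureModule X))
    (V : X.Opens) : Γ(X, V) →+ Γ(X, V) where
  toFun g := σ.hom.app (op V) g
  map_zero' := map_zero (σ.hom.app (op V)).hom
  map_add' a b := map_add (σ.hom.app (op V)).hom a b

lemma sapp_res (σ : Coh.toAb (Coh.structureModule X) ⟶ Coh.toAb (Coh.structureModule X))
    {V W : X.Opens} (h : W ≤ V) (g : Γ(X, V)) :
    sapp σ W (resR h g) = resR h (sapp σ V g) :=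
  NatTrans.naturality_apply σ.hom (homOfLE h).op g

variable {ι : Type u} (U : ι → X.Opens) (e : ∀ a, Γ(M, U a)) (n : ∀ a, Γ(N, U a))
  (σ : Coh.toAb (Coh.structureModule X) ⟶ Coh.toAb (Coh.structureModule X))

/-- `t` is the value at `x`. -/
def Rel {V : X.Opens} (x : Γ(M, V)) (t : Γ(N, V)) : Prop :=
  ∀ (a : ι) (W : X.Opens) (h : W ≤ V) (h' : W ≤ U a) (g : Γ(X, W)),
    res M h x = g • res M h' (e a) → res N h t = sapp σ W g • res N h' (n a)

/-- The compatibility of the sections `n a` with `σ`. -/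
def Compat : Prop :=
  ∀ (a b : ι) (W : X.Opens) (ha : W ≤ U a) (hb : W ≤ U b) (k g : Γ(X, W)),
    res M hb (e b) = k • res M ha (e a) →
      sapp σ W g • res N hb (n b) = sapp σ W (g * k) • res N ha (n a)

variable {U e n σ}

lemma rel_unique (hcov : ∀ x, ∃ a, x ∈ U a) (he : ∀ a, IsFrame (e a)) {V : X.Opens} {x : Γ(M, V)}
    {t t' : Γ(N, V)} (ht : Rel U e n σ x t) (ht' : Rel U e n σ x t') : t = t' := by
  refine eq_of_locally _ _ fun p hp => ?_
  obtain ⟨a, ha⟩ := hcov p
  obtain ⟨g, hg⟩ := (he a).exists_coord inf_le_right (res M (inf_le_left : V ⊓ U a ≤ V) x)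
  exact ⟨V ⊓ U a, inf_le_left, ⟨hp, ha⟩,
    (ht a _ inf_le_left inf_le_right g hg).trans (ht' a _ inf_le_left inf_le_right g hg).symm⟩

lemma rel_res {V V' : X.Opens} (i : V' ≤ V) {x : Γ(M, V)} {t : Γ(N, V)} (ht : Rel U e n σ x t) :
    Rel U e n σ (res M i x) (res N i t) := fun a W h h' g hg => by
  rw [res_res] at hg ⊢
  exact ht a W _ h' g hg

lemma rel_add (he : ∀ a, IsFrame (e a)) {V : X.Opens} {x y : Γ(M, V)} {t s : Γ(N, V)}
    (ht : Rel U e n σ x t) (hs : Rel U e n σ y s) : Rel U e n σ (x + y) (t + s) :=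
  fun a W h h' g hg => by
  obtain ⟨g1, h1⟩ := (he a).exists_coord h' (res M h x)
  obtain ⟨g2, h2⟩ := (he a).exists_coord h' (res M h y)
  have : g = g1 + g2 := (he a).coord_unique h' (by rw [← hg, map_add, h1, h2, add_smul])
  rw [map_add, ht a W h h' g1 h1, hs a W h h' g2 h2, this, map_add, add_smul]

variable (hcov : ∀ x, ∃ a, x ∈ U a) (he : ∀ a, IsFrame (e a)) (hc : Compat U e n σ)

include hcov he hc in
lemma exists_rel {V : X.Opens} (x : Γ(M, V)) : ∃ t : Γ(N, V), Rel U e n σ x t := by
  have hg := fun a => (he a).exists_coord inf_le_right (res M (inf_le_left : V ⊓ U a ≤ V) x)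
  choose g hg using hg
  have hN : ∀ (a : ι) (W : X.Opens) (hW : W ≤ V ⊓ U a),
      res N hW (sapp σ _ (g a) • res N (inf_le_right : V ⊓ U a ≤ U a) (n a)) =
        sapp σ W (resR hW (g a)) • res N (hW.trans inf_le_right) (n a) := fun a W hW => by
    rw [res_smul, res_res, sapp_res]
  obtain ⟨t, ht, -⟩ := existsUnique_glue (M := N) (V := V) (fun a => V ⊓ U a) (fun _ => inf_le_left)
    (fun p hp => (hcov p).imp fun a ha => ⟨hp, ha⟩)
    (fun a => sapp σ _ (g a) • res N (inf_le_right : V ⊓ U a ≤ U a) (n a))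
    fun a b => by
      let W := (V ⊓ U a) ⊓ (V ⊓ U b)
      have hWa : W ≤ U a := inf_le_left.trans inf_le_right
      have hWb : W ≤ U b := inf_le_right.trans inf_le_right
      obtain ⟨k, hk⟩ := (he a).exists_coord hWa (res M hWb (e b))
      rw [hN, hN, hc a b W hWa hWb k _ hk]
      congr 2
      refine (he a).coord_unique hWa ?_
      have h1 := congrArg (res M (inf_le_left : W ≤ V ⊓ U a)) (hg a)
      have h2 := congrArg (res M (inf_le_right : W ≤ V ⊓ U b)) (hg b)
      rw [res_smul, res_res, res_res] at h1 h2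
      rw [← h1, mul_smul, ← hk, ← h2]
  refine ⟨t, fun a W h h' k hk => ?_⟩
  have hW : W ≤ V ⊓ U a := le_inf h h'
  have h1 : k = resR hW (g a) := (he a).coord_unique h' (by
    rw [← hk]
    have := congrArg (res M hW) (hg a)
    rw [res_smul, res_res, res_res] at this
    exact this)
  have h2 := congrArg (res N hW) (ht a)
  rw [res_res, hN, ← h1] at h2
  exact h2

/-- The map `g • e a ↦ σ g • n a`. -/
noncomputable def semiMap : Coh.toAb M ⟶ Coh.toAb N :=
  ⟨{ app := fun V => AddCommGrpCat.ofHom (AddMonoidHom.mk'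
      (fun x : Γ(M, V.unop) => (exists_rel hcov he hc x).choose) fun x x' => rel_unique hcov he
        (exists_rel hcov he hc _).choose_spec
        (rel_add he (exists_rel hcov he hc x).choose_spec (exists_rel hcov he hc x').choose_spec))
     naturality := fun V W i => by
       ext x
       exact rel_unique hcov he (exists_rel hcov he hc (res M i.unop.le x)).choose_spec
         (rel_res i.unop.le (exists_rel hcov he hc x).choose_spec) }⟩

/-- The map on sections. -/
noncomputable def mapp (φ : Coh.toAb M ⟶ Coh.toAb N) (V : X.Opens) : Γ(M, V) →+ Γ(N, V) where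
  toFun x := φ.hom.app (op V) x
  map_zero' := map_zero (φ.hom.app (op V)).hom
  map_add' a b := map_add (φ.hom.app (op V)).hom a b

lemma mapp_res (φ : Coh.toAb M ⟶ Coh.toAb N) {V W : X.Opens} (h : W ≤ V) (x : Γ(M, V)) :
    mapp φ W (res M h x) = res N h (mapp φ V x) :=
  NatTrans.naturality_apply φ.hom (homOfLE h).op x

lemma semiMap_spec {V : X.Opens} (x : Γ(M, V)) :
    Rel U e n σ x (mapp (semiMap hcov he hc) V x) :=
  (exists_rel hcov he hc x).choose_spec

lemma semiMap_frame {a : ι} {W : X.Opens} (h : W ≤ U a) (g : Γ(X, W)) :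
    mapp (semiMap hcov he hc) W (g • res M h (e a)) = sapp σ W g • res N h (n a) := by
  have := semiMap_spec hcov he hc (g • res M h (e a)) a W le_rfl h g (res_self _)
  rwa [res_self] at this

include hcov he in
/-- Maps of abelian sheaves agreeing on multiples of frames are equal. -/
lemma toAb_hom_ext {φ ψ : Coh.toAb M ⟶ Coh.toAb N}
    (h : ∀ (a : ι) (W : X.Opens) (hW : W ≤ U a) (g : Γ(X, W)),
      mapp φ W (g • res M hW (e a)) = mapp ψ W (g • res M hW (e a))) : φ = ψ := by
  refine CategoryTheory.Sheaf.hom_ext (NatTrans.ext (funext fun V => ?_))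
  refine AddCommGrpCat.hom_ext (AddMonoidHom.ext fun (x : Γ(M, V.unop)) => ?_)
  show mapp φ V.unop x = mapp ψ V.unop x
  refine eq_of_locally _ _ fun p hp => ?_
  obtain ⟨a, ha⟩ := hcov p
  obtain ⟨g, hg⟩ := (he a).exists_coord inf_le_right (res M (inf_le_left : V.unop ⊓ U a ≤ V.unop) x)
  refine ⟨V.unop ⊓ U a, inf_le_left, ⟨hp, ha⟩, ?_⟩
  rw [← mapp_res, ← mapp_res, hg, h]

end Groth.Agent.H44Frob
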