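import Groth.Agent.H44Frob.SemiMap
import Groth.Prelude.Def_CohB1

/-!
# The `p`-th power map `L → L^{⊗p}` and its retraction for a Frobenius split scheme
-/

universe u

open CategoryTheory AlgebraicGeometry TopologicalSpace Opposite

namespace Groth.Agent.H44Frob

open Groth.Agent Groth.Agent.AModX Groth.Agent.InvX

variable {X : Scheme.{u}} {L : X.Modules}

/-- `e^{⊗ n}`. -/
noncomputable def powT {U : X.Opens} (e : Γ(L, U)) : ∀ n : ℕ, Γ(CohB1.tensorPow L n, U)
  | 0 => show Γ(Coh.structureModule X, U) from (1 : Γ(X, U))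
  | n + 1 => InvX.tmul (powT e n) e

lemma res_powT {U V : X.Opens} (h : V ≤ U) (e : Γ(L, U)) :
    ∀ n, res (CohB1.tensorPow L n) h (powT e n) = powT (res L h e) n
  | 0 => show resR h (1 : Γ(X, U)) = 1 from map_one _
  | n + 1 => (res_tmul h (powT e n) e).trans (congrArg (InvX.tmul · _) (res_powT h e n))

lemma powT_smul {U : X.Opens} (c : Γ(X, U)) (e : Γ(L, U)) :
    ∀ n, powT (c • e) n = c ^ n • powT e n
  | 0 => by
    rw [pow_zero, one_smul]
    rfl
  | n + 1 => by
    show InvX.tmul (powT (c • e) n) (c • e) = c ^ (n + 1) • InvX.tmul (powT e n) e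
    rw [powT_smul c e n, tmul_smul_left, tmul_smul_right, smul_smul, pow_succ]

lemma isFrame_powT {U : X.Opens} {e : Γ(L, U)} (he : IsFrame e) : ∀ n, IsFrame (powT e n)
  | 0 => isFrame_one U
  | n + 1 => isFrame_tmul (isFrame_powT he n) he

variable (p : ℕ) (φ s : Coh.toAb (Coh.structureModule X) ⟶ Coh.toAb (Coh.structureModule X))
  (hφ : ∀ (U : X.Opens) (t : Γ(X, U)), φ.hom.app (op U) t = t ^ p)

include hφ in
theorem compat_pow {ι : Type u} (U : ι → X.Opens) (e : ∀ a, Γ(L, U a)) :
    Compat U e (fun a => powT (e a) p) φ := by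
  intro a b W ha hb k g hk
  rw [res_powT, res_powT, hk, powT_smul, smul_smul]
  congr 1
  show sapp φ W g * k ^ p = sapp φ W (g * k)
  rw [show sapp φ W g = g ^ p from hφ W g, show sapp φ W (g * k) = (g * k) ^ p from hφ W _, mul_pow]

theorem compat_root (hlin : ∀ (U : X.Opens) (a b : Γ(X, U)),
      s.hom.app (op U) (a ^ p * b) = a * @id Γ(X, U) (s.hom.app (op U) b))
    {ι : Type u} (U : ι → X.Opens) (e : ∀ a, Γ(L, U a)) (he : ∀ a, IsFrame (e a)) :
    Compat U (fun a => powT (e a) p) e s := by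
  intro a b W ha hb K g hK
  obtain ⟨k, hk⟩ := (he a).exists_coord ha (res L hb (e b))
  rw [res_powT, res_powT, hk, powT_smul, ← res_powT] at hK
  have hKk : k ^ p = K := (isFrame_powT (he a) p).coord_unique ha hK
  rw [hk, smul_smul, ← hKk, mul_comm g (k ^ p)]
  congr 1
  show sapp s W g * k = sapp s W (k ^ p * g)
  exact (mul_comm _ _).trans (hlin W k g).symm

include hφ in
/-- For a Frobenius split scheme and an invertible module `L`, an additive map `L → L^{⊗p}`,
semilinear for the `p`-th power map on global functions, with a retraction. -/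
theorem exists_pow_map (hs : φ ≫ s = 𝟙 _)
    (hlin : ∀ (U : X.Opens) (a b : Γ(X, U)),
      s.hom.app (op U) (a ^ p * b) = a * @id Γ(X, U) (s.hom.app (op U) b))
    (hL : PicF.IsInvertible L) :
    ∃ (φL : Coh.toAb L ⟶ Coh.toAb (CohB1.tensorPow L p))
      (sL : Coh.toAb (CohB1.tensorPow L p) ⟶ Coh.toAb L), φL ≫ sL = 𝟙 _ ∧
      ∀ c : Coh.Γtop X,
        Coh.smulAb L c ≫ φL = φL ≫ Coh.smulAb (CohB1.tensorPow L p) (c ^ p) := by
  have hfr := fun x : X => exists_frame hL x
  choose U hxU e he using hfr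
  have hcov : ∀ x : X, ∃ a, x ∈ U a := fun x => ⟨x, hxU x⟩
  let φL := semiMap hcov he (compat_pow p φ hφ U e)
  let sL := semiMap hcov (fun a => isFrame_powT (he a) p) (compat_root p s hlin U e he)
  refine ⟨φL, sL, toAb_hom_ext hcov he fun a W hW g => ?_, fun c =>
    toAb_hom_ext hcov he fun a W hW g => ?_⟩
  · show mapp sL W (mapp φL W (g • res L hW (e a))) = g • res L hW (e a)
    rw [semiMap_frame, semiMap_frame]
    congr 1
    exact congrArg (fun f : Coh.toAb (Coh.structureModule X) ⟶ Coh.toAb (Coh.structureModule X) =>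
      f.hom.app (op W) g) hs
  · show mapp φL W ((show Γ(X, W) from Coh.resTop X (op W) c) • (g • res L hW (e a))) =
      (show Γ(X, W) from Coh.resTop X (op W) (c ^ p)) • mapp φL W (g • res L hW (e a))
    have hr : ∀ r : Γ(X, W), mapp φL W (r • res L hW (e a)) =
        r ^ p • res (CohB1.tensorPow L p) hW (powT (e a) p) := fun r => by
      rw [semiMap_frame]
      exact congrArg (fun z : Γ(X, W) => z • res (CohB1.tensorPow L p) hW (powT (e a) p)) (hφ W r)
    set d : Γ(X, W) := Coh.resTop X (op W) c with hd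
    rw [hr g, smul_smul d g, hr, map_pow, smul_smul, mul_pow]
    rfl

end Groth.Agent.H44Frob
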